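import Cfsg.Agent.FGS.FrobComplement
import Mathlib.RingTheory.IntegralDomain
import Mathlib.LinearAlgebra.Determinant
import Mathlib.Algebra.Field.ZMod
import Mathlib.Algebra.Module.ZMod
import Mathlib.LinearAlgebra.FreeModule.Finite.Basic

/-!
A non-cyclic Sylow subgroup in a Frobenius complement forces a kernel of odd square order.
-/

set_option autoImplicit false

namespace Cfsg.Agent.FGS.FC

open Subgroup

universe u

theorem isSquare_card_of_fpf_elem {S : Type*} [Group S] [Finite S] (hS : IsPGroup 2 S) (hnc : ¬ IsCyclic S)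
    {r : ℕ} [Fact r.Prime] (hoddr : r ≠ 2) {V : Type u} [AddCommGroup V] [Finite V] [Module (ZMod r) V]
    (f : S →* AddMonoid.End V) (hf : ∀ a : S, a ≠ 1 → ∀ v : V, f a v = v → v = 0) :
    IsSquare (Nat.card V) := by
  have hr : r.Prime := Fact.out
  haveI : Module.Finite (ZMod r) V := Module.Finite.of_finite
  haveI : Module.Free (ZMod r) V := Module.Free.of_divisionRing _ _
  rw [Nat.card_congr (Module.finBasis (ZMod r) V).equivFun.toEquiv, Nat.card_fun, Nat.card_zmod, Nat.card_fin]
  refine Even.isSquare_pow ?_ r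
  by_contra hd
  rw [Nat.not_even_iff_odd] at hd
  apply hnc
  let D : S →* ZMod r :=
    { toFun := fun a => LinearMap.det (AddMonoidHom.toZModLinearMap r (f a))
      map_one' := by
        have : AddMonoidHom.toZModLinearMap r (f 1) = LinearMap.id := by
          ext v; change f 1 v = v; rw [map_one]; rfl
        rw [this, LinearMap.det_id]
      map_mul' := fun a b => by
        rw [← map_mul LinearMap.det]
        congr 1
        ext v
        change f (a * b) v = f a (f b v)
        rw [map_mul]; rfl }
  refine isCyclic_of_injective_ringHom D ?_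
  intro a b hab
  by_contra hne
  have hker : D (a * b⁻¹) = 1 := by rw [map_mul, hab, ← map_mul, mul_inv_cancel, map_one]
  obtain ⟨k, hk⟩ := (IsPGroup.iff_orderOf.1 hS) (a * b⁻¹)
  have hk0 : k ≠ 0 := fun h => by
    rw [h, pow_zero, orderOf_eq_one_iff] at hk; exact hne (mul_inv_eq_one.1 hk)
  obtain ⟨j, rfl⟩ := Nat.exists_eq_succ_of_ne_zero hk0
  set z := (a * b⁻¹) ^ (2 ^ j) with hz
  have hz1 : z ≠ 1 := pow_ne_one_of_lt_orderOf (by positivity) (by rw [hk, pow_succ]; have := Nat.two_pow_pos j; omega)
  have hz2 : z * z = 1 := by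
    rw [hz, ← pow_add, show 2 ^ j + 2 ^ j = orderOf (a * b⁻¹) by rw [hk, pow_succ]; omega, pow_orderOf_eq_one]
  have hzneg : AddMonoidHom.toZModLinearMap r (f z) = (-1 : ZMod r) • LinearMap.id := by
    ext v
    rw [neg_one_smul]
    change f z v = -v
    refine eq_neg_of_add_eq_zero_left (hf z hz1 _ ?_)
    rw [map_add, ← Function.comp_apply (f := f z) (g := f z)]
    change (f z * f z) v + _ = _
    rw [← map_mul, hz2, map_one, add_comm]; rfl
  have hDz : D z = -1 := by
    change LinearMap.det (AddMonoidHom.toZModLinearMap r (f z)) = -1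
    rw [hzneg, LinearMap.det_smul, LinearMap.det_id, mul_one, hd.neg_one_pow]
  rw [hz, map_pow, hker, one_pow] at hDz
  haveI : Fact (2 < r) := ⟨lt_of_le_of_ne hr.two_le (Ne.symm hoddr)⟩
  exact ZMod.neg_one_ne_one hDz.symm


theorem isSquare_card_of_fpf {S : Type*} [Group S] [Finite S] (hS : IsPGroup 2 S) (hnc : ¬ IsCyclic S)
    {V : Type u} [AddCommGroup V] [Finite V] (f : S →* AddMonoid.End V)
    (hf : ∀ a : S, a ≠ 1 → ∀ v : V, f a v = v → v = 0) (hodd : Odd (Nat.card V)) :
    IsSquare (Nat.card V) := by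
  induction hn : Nat.card V using Nat.strong_induction_on generalizing V with
  | _ n ih =>
    subst hn
    by_cases h1 : Nat.card V = 1
    · rw [h1]; exact ⟨1, rfl⟩
    obtain ⟨r, hr, hrd⟩ := Nat.exists_prime_and_dvd h1
    haveI := Fact.mk hr
    set m : V →+ V := nsmulAddMonoidHom r with hm
    have hcard : Nat.card V = Nat.card m.ker * Nat.card m.range := by
      rw [AddSubgroup.card_eq_card_quotient_mul_card_addSubgroup m.ker, mul_comm,
        Nat.card_congr (QuotientAddGroup.quotientKerEquivRange m).toEquiv]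
    have hkst : ∀ a : S, ∀ v ∈ m.ker, f a v ∈ m.ker := fun a v hv => by
      change r • v = 0 at hv
      change r • (f a v) = 0
      rw [← map_nsmul, hv, map_zero]
    have hist : ∀ a : S, ∀ v ∈ m.range, f a v ∈ m.range := by
      rintro a _ ⟨w, rfl⟩
      exact ⟨f a w, (map_nsmul (f a) r w).symm⟩
    let fK : S →* AddMonoid.End m.ker :=
      { toFun := fun a => ((f a).comp m.ker.subtype).codRestrict _ fun v => hkst a v v.2
        map_one' := by ext v; change f 1 (v : V) = v; rw [map_one]; rfl
        map_mul' := fun a b => by ext v; change f (a * b) (v : V) = _; rw [map_mul]; rfl }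
    let fI : S →* AddMonoid.End m.range :=
      { toFun := fun a => ((f a).comp m.range.subtype).codRestrict _ fun v => hist a v v.2
        map_one' := by ext v; change f 1 (v : V) = v; rw [map_one]; rfl
        map_mul' := fun a b => by ext v; change f (a * b) (v : V) = _; rw [map_mul]; rfl }
    have hK1 : 1 < Nat.card m.ker := by
      rw [Finite.one_lt_card_iff_nontrivial]
      obtain ⟨v, hv⟩ := exists_prime_addOrderOf_dvd_card' r hrd
      have hvk : v ∈ m.ker := by
        change r • v = 0
        rw [← hv]; exact addOrderOf_nsmul_eq_zero v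
      refine ⟨0, ⟨v, hvk⟩, fun h => ?_⟩
      have h' : v = 0 := (congrArg Subtype.val h).symm
      rw [h', addOrderOf_zero] at hv
      exact hr.ne_one hv.symm
    have hoddr : r ≠ 2 := fun h => (Nat.not_even_iff_odd.2 hodd) (even_iff_two_dvd.2 (h ▸ hrd))
    have hI : IsSquare (Nat.card m.range) := by
      refine ih _ ?_ fI (fun a ha v hv => Subtype.ext (hf a ha v (congrArg Subtype.val hv))) ?_ rfl
      · rw [hcard]
        exact lt_mul_of_one_lt_left Nat.card_pos hK1
      · exact hodd.of_dvd_nat (Dvd.intro_left _ hcard.symm)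
    rw [hcard]
    refine IsSquare.mul ?_ hI
    exact @isSquare_card_of_fpf_elem S _ _ hS hnc r _ hoddr m.ker _ _
      (AddCommGroup.zmodModule fun v => Subtype.ext v.2) fK
      (fun a ha v hv => Subtype.ext (hf a ha v (congrArg Subtype.val hv)))

/-- The kernel of a Frobenius group with complement of even order is abelian. -/
theorem kernel_comm_of_even {L : Type*} [Group L] [Finite L] {H : Subgroup L}
    (hH : Cfsg.IsFrobeniusComplement H) {N : Subgroup L} [N.Normal] (hc : Subgroup.IsComplement' N H)
    (h2 : 2 ∣ Nat.card H) : IsMulCommutative N := by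
  haveI : Fact (Nat.Prime 2) := ⟨Nat.prime_two⟩
  obtain ⟨t, ht⟩ := exists_prime_orderOf_dvd_card' (G := H) 2 h2
  have ht1 : (t : L) ≠ 1 := fun h => by
    rw [← Subgroup.orderOf_coe, h, orderOf_one] at ht; norm_num at ht
  have htt : (t : L) * t = 1 := by
    rw [← pow_two, ← ht, ← Subgroup.orderOf_coe, pow_orderOf_eq_one]
  have hinv : ∀ n ∈ N, (t : L) * n * t = n⁻¹ := by
    intro n hn
    let F : N → N := fun y => ⟨(y : L)⁻¹ * ((t : L) * y * (t : L)),
      mul_mem (inv_mem y.2) (by
        have := Normal.conj_mem (inferInstance : N.Normal) (y : L) y.2 (t : L)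
        rwa [show ((t : L))⁻¹ = t from inv_eq_of_mul_eq_one_right htt] at this)⟩
    have hFinj : Function.Injective F := by
      intro x y hxy
      have h : (x : L)⁻¹ * ((t : L) * x * t) = (y : L)⁻¹ * ((t : L) * y * t) := congrArg Subtype.val hxy
      have hcm : Commute ((y : L) * (x : L)⁻¹) (t : L) := by
        have h3 : (y : L) * (x : L)⁻¹ * t * x = t * y := by
          calc (y : L) * (x : L)⁻¹ * t * x
              = y * ((x : L)⁻¹ * (t * x * t)) * (t : L)⁻¹ := by group
            _ = y * ((y : L)⁻¹ * (t * y * t)) * (t : L)⁻¹ := by rw [h]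
            _ = t * y := by group
        change (y : L) * (x : L)⁻¹ * t = t * ((y : L) * (x : L)⁻¹)
        rw [← mul_assoc, ← h3]; group
      have hmem : (y : L) * (x : L)⁻¹ ∈ N ⊓ centralizer {(t : L)} :=
        ⟨N.mul_mem y.2 (N.inv_mem x.2), mem_centralizer_singleton_iff.2 (by first | exact hcm.eq | exact hcm.eq.symm)⟩
      rw [Frobenius.fpf_of_disjoint hH hc.disjoint t.2 ht1, mem_bot, mul_inv_eq_one] at hmem
      exact Subtype.ext hmem.symm
    obtain ⟨y, hy⟩ := Finite.surjective_of_injective hFinj ⟨n, hn⟩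
    have hy' : (y : L)⁻¹ * ((t : L) * y * t) = n := congrArg Subtype.val hy
    rw [← hy']
    simp only [mul_inv_rev, inv_inv, show ((t : L))⁻¹ = t from inv_eq_of_mul_eq_one_right htt]
    calc (t : L) * ((y : L)⁻¹ * (t * y * t)) * t = t * (y : L)⁻¹ * t * y * (t * t) := by group
      _ = _ := by rw [htt]; group
  refine ⟨⟨fun a b => Subtype.ext ?_⟩⟩
  have h1 := hinv _ (mul_mem (inv_mem a.2) (inv_mem b.2))
  simp only [mul_inv_rev, inv_inv] at h1
  change (a : L) * b = b * a
  rw [← h1]
  calc (a : L) * b = ((a : L)⁻¹)⁻¹ * ((b : L)⁻¹)⁻¹ := by simp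
    _ = ((t : L) * (a : L)⁻¹ * t) * ((t : L) * (b : L)⁻¹ * t) := by
      rw [hinv _ (inv_mem a.2), hinv _ (inv_mem b.2)]
    _ = (t : L) * (a : L)⁻¹ * (t * t) * (b : L)⁻¹ * t := by group
    _ = _ := by rw [htt]; group

/-- Odd Sylow subgroups of Frobenius complements are cyclic. -/
theorem isCyclic_sylow_of_odd {L : Type*} [Group L] [Finite L] {H : Subgroup L}
    (hH : Cfsg.IsFrobeniusComplement H) {p : ℕ} [Fact p.Prime] (hp : p ≠ 2) (P : Sylow p H) : IsCyclic P := by
  haveI := Fintype.ofFinite (P : Subgroup H)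
  classical
  refine H4.isCyclic_of_card_pow_le hp P.isPGroup' ?_
  by_contra hgt
  rw [not_le] at hgt
  haveI : Nontrivial (P : Subgroup H) := by
    obtain ⟨x, y, hne⟩ := Fintype.one_lt_card_iff.1
      (lt_of_le_of_lt (Fact.out : p.Prime).one_lt.le (Nat.card_eq_fintype_card (α := {x : (P : Subgroup H) // x ^ p = 1}) ▸ hgt))
    exact ⟨⟨x.1, y.1, fun h => hne (Subtype.ext h)⟩⟩
  haveI : Nontrivial (center (P : Subgroup H)) := P.isPGroup'.center_nontrivial
  obtain ⟨c, hc⟩ := exists_prime_orderOf_dvd_card' (G := center (P : Subgroup H)) p (by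
    obtain ⟨k, hk⟩ := IsPGroup.iff_card.1 (P.isPGroup'.to_subgroup (center (P : Subgroup H)))
    rcases k with _ | k
    · exact absurd hk (by simpa using (Finite.one_lt_card (α := center (P : Subgroup H))).ne')
    · rw [hk]; exact dvd_pow_self p k.succ_ne_zero)
  have hc' : orderOf (c : (P : Subgroup H)) = p := by rw [Subgroup.orderOf_coe]; exact hc
  obtain ⟨x, hx, hxn⟩ : ∃ x : (P : Subgroup H), x ^ p = 1 ∧ x ∉ zpowers (c : (P : Subgroup H)) := by
    by_contra hcon
    push Not at hcon
    have : Nat.card {x : (P : Subgroup H) // x ^ p = 1} ≤ Nat.card (zpowers (c : (P : Subgroup H))) :=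
      Nat.card_le_card_of_injective (fun x => ⟨x.1, hcon x.1 x.2⟩)
        (fun a b h => Subtype.ext (congrArg (fun z : zpowers (c : (P : Subgroup H)) => (z : (P : Subgroup H))) h))
    rw [Nat.card_zpowers, hc'] at this
    omega
  set E0 : Subgroup (P : Subgroup H) := closure {(c : (P : Subgroup H)), x}
  haveI hE0 : IsMulCommutative E0 := isMulCommutative_closure (by
    have hcx := (Subgroup.mem_center_iff.1 c.2 x)
    rintro a (rfl | rfl) b (rfl | rfl) <;> first | rfl | exact hcx.symm | exact hcx)
  set E : Subgroup L := (E0.map (P : Subgroup H).subtype).map H.subtype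
  haveI hE : IsMulCommutative E := inferInstance
  haveI := isCyclic_of_isMulCommutative hH E (map_subtype_le _) hE
  haveI : IsCyclic E0 := isCyclic_of_injective
    (((E0.equivMapOfInjective _ (subtype_injective _)).trans
      ((E0.map (P : Subgroup H).subtype).equivMapOfInjective _ H.subtype_injective)).toMonoidHom) (MulEquiv.injective _)
  haveI := Fintype.ofFinite E0
  have hle := IsCyclic.card_pow_eq_one_le (α := E0) (Fact.out : p.Prime).pos
  have hc0 : (c : (P : Subgroup H)) ∈ E0 := subset_closure (by simp)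
  set Z : Subgroup E0 := (zpowers (c : (P : Subgroup H))).subgroupOf E0
  have hsub : insert (⟨x, subset_closure (by simp)⟩ : E0) (Z : Set E0).toFinset ⊆
      Finset.univ.filter fun y : E0 => y ^ p = 1 := by
    intro y hy
    rw [Finset.mem_insert, Set.mem_toFinset] at hy
    simp only [Finset.mem_filter, Finset.mem_univ, true_and]
    rcases hy with rfl | hy
    · exact Subtype.ext hx
    · obtain ⟨i, hi⟩ := mem_zpowers_iff.1 (show (y : (P : Subgroup H)) ∈ zpowers (c : (P : Subgroup H)) from hy)
      refine Subtype.ext ?_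
      rw [Subgroup.coe_pow, ← hi, ← zpow_natCast, ← zpow_mul, mul_comm, zpow_mul, zpow_natCast,
        orderOf_dvd_iff_pow_eq_one.1 (dvd_of_eq hc'), one_zpow]; rfl
  have hZ : (Z : Set E0).toFinset.card = p := by
    rw [Set.toFinset_card, ← Nat.card_eq_fintype_card, SetLike.coe_sort_coe,
      Nat.card_congr (subgroupOfEquivOfLe (zpowers_le.2 hc0)).toEquiv, Nat.card_zpowers, hc']
  have := (Finset.card_le_card hsub).trans hle
  rw [Finset.card_insert_of_notMem (by rw [Set.mem_toFinset]; exact hxn), hZ] at this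
  omega

/-- A non-cyclic Sylow subgroup in a Frobenius complement gives a kernel of odd square order. -/
theorem odd_isSquare_index {L : Type*} [Group L] [Finite L] {H : Subgroup L}
    (hH : Cfsg.IsFrobeniusComplement H)
    (hZ : ∃ (p : ℕ) (_ : Fact p.Prime) (P : Sylow p H), ¬ IsCyclic P) :
    Odd H.index ∧ IsSquare H.index := by
  obtain ⟨p, hp, P, hP⟩ := hZ
  by_cases hp2 : p = 2
  swap
  · exact absurd (isCyclic_sylow_of_odd hH hp2 P) hP
  subst hp2
  obtain ⟨N, -, hNn, hc⟩ := Frobenius.exists_kernel hH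
  haveI := hNn
  have h2 : 2 ∣ Nat.card H := by
    obtain ⟨k, hk⟩ := IsPGroup.iff_card.1 P.isPGroup'
    rcases k with _ | k
    · exfalso; apply hP
      haveI : Subsingleton P := (Nat.card_eq_one_iff_unique.1 (by simpa using hk)).1
      infer_instance
    · exact (dvd_pow_self 2 k.succ_ne_zero).trans (hk ▸ card_subgroup_dvd_card _)
  haveI := kernel_comm_of_even hH hc h2
  have hcop := Frobenius.coprime_of_complement hH hc
  have hodd : Odd (Nat.card N) := by
    rw [← Nat.not_even_iff_odd, even_iff_two_dvd]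
    intro hd
    have := Nat.dvd_gcd hd h2
    rw [hcop.gcd_eq_one] at this
    norm_num at this
  have hidx : H.index = Nat.card N := hc.index_eq_card
  rw [hidx]
  refine ⟨hodd, ?_⟩
  letI : CommGroup N := { (inferInstance : Group N) with mul_comm := mul_comm' }
  let f : (P : Subgroup H) →* AddMonoid.End (Additive N) :=
    { toFun := fun a => MonoidHom.toAdditive (MulAut.conjNormal (H := N) ((a : H) : L)).toMonoidHom
      map_one' := by
        ext v
        change Additive.toMul ((((1 : (P : Subgroup H)) : H) : L) * ((v.toMul : N) : L) * ((((1 : (P : Subgroup H)) : H) : L))⁻¹) = Additive.toMul ((v.toMul : N) : L)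
        simp
      map_mul' := fun a b => by
        ext v
        change (((a * b : (P : Subgroup H)) : H) : L) * ((v.toMul : N) : L) * _ =
          ((a : H) : L) * (((b : H) : L) * ((v.toMul : N) : L) * (((b : H) : L))⁻¹) * (((a : H) : L))⁻¹
        simp [mul_assoc] }
  rw [Nat.card_congr (Additive.ofMul (α := N))]
  refine isSquare_card_of_fpf P.isPGroup' hP f (fun a ha v hv => ?_)
    (by rwa [← Nat.card_congr (Additive.ofMul (α := N))])
  have hv' : ((a : H) : L) * ((v.toMul : N) : L) * ((a : H) : L)⁻¹ = ((v.toMul : N) : L) :=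
    congrArg Subtype.val (congrArg Additive.toMul hv)
  have hmem : ((v.toMul : N) : L) ∈ N ⊓ centralizer {((a : H) : L)} :=
    ⟨(v.toMul).2, mem_centralizer_singleton_iff.2 (by
      rw [mul_inv_eq_iff_eq_mul] at hv'
      first | exact hv' | exact hv'.symm)⟩
  rw [Frobenius.fpf_of_disjoint hH hc.disjoint (a : H).2 (fun h => ha (Subtype.ext (Subtype.ext h))),
    mem_bot] at hmem
  exact Additive.toMul.injective (Subtype.ext hmem)

end Cfsg.Agent.FGS.FC
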