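import Cfsg.Agent.FGS.FrobComplement
import Cfsg.Agent.S0589
import Mathlib.RingTheory.Idempotents
import Mathlib.RepresentationTheory.Maschke
import Mathlib.LinearAlgebra.Matrix.ToLinearEquiv
import Mathlib.LinearAlgebra.Matrix.NonsingularInverse
import Mathlib.Algebra.MonoidAlgebra.MapDomain
import Mathlib.Algebra.Module.ZMod
import Mathlib.Algebra.Field.ZMod
import Mathlib.LinearAlgebra.Dual.Lemmas
import Mathlib.RingTheory.SimpleModule.Basic
import Mathlib.Data.Nat.Prime.Infinite

/-!
A Frobenius complement has fixed-point-free modules in almost every prime characteristic.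
-/

set_option autoImplicit false

namespace Cfsg.Agent.FGS.FC

open Subgroup
open scoped Pointwise

universe u

/-- A Frobenius complement normalises a nontrivial abelian subgroup on which it acts
fixed-point-freely. -/
theorem exists_abelian_fpf_all {L : Type*} [Group L] [Finite L] {H : Subgroup L}
    (hH : Cfsg.IsFrobeniusComplement H) :
    ∃ V : Subgroup L, IsMulCommutative V ∧ V ≠ ⊥ ∧ H ≤ normalizer (V : Set L) ∧
      ∀ h ∈ H, h ≠ 1 → V ⊓ centralizer {h} = ⊥ := by
  obtain ⟨N, -, hNn, hc⟩ := Frobenius.exists_kernel hH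
  haveI := hNn
  have hN1 : Nat.card N ≠ 1 := fun h =>
    Frobenius.ne_bot_of_isComplement' hH hc (card_eq_one.1 h)
  obtain ⟨p, hp, hpd⟩ := Nat.exists_prime_and_dvd hN1
  haveI := Fact.mk hp
  obtain ⟨P⟩ : Nonempty (Sylow p N) := inferInstance
  set P' := (P : Subgroup N).map N.subtype
  set T := normalizer (P' : Set L)
  have hTN : T ⊔ N = ⊤ := Sylow.normalizer_sup_eq_top P
  set M := N.subgroupOf T
  haveI : M.Normal := inferInstance
  have hidx : M.index = Nat.card H := by
    change N.relIndex T = _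
    rw [← Subgroup.relIndex_sup_right (H := T) (K := N), hTN, relIndex_top_right]
    exact hc.symm.index_eq_card
  have hcop : (Nat.card M).Coprime M.index := by
    rw [hidx]
    refine (Frobenius.coprime_of_complement hH hc).coprime_dvd_left ?_
    rw [← card_map_of_injective T.subtype_injective, subgroupOf_map_subtype]
    exact card_dvd_of_le inf_le_left
  obtain ⟨K, hK⟩ := Subgroup.exists_right_complement'_of_coprime hcop
  set K' := K.map T.subtype
  have hK' : Nat.card K' = Nat.card H := by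
    rw [card_map_of_injective T.subtype_injective, ← hidx, hK.symm.index_eq_card]
  obtain ⟨x, hx⟩ := Cfsg.Agent.S0589.result H hH K' (dvd_of_eq hK')
  have hKx : K' = MulAut.conj x • H := Subgroup.eq_of_le_of_card_ge hx (by
    rw [hK']
    exact le_of_eq (card_map_of_injective (MulAut.conj x).injective))
  -- conjugate back
  set S := MulAut.conj x⁻¹ • P'
  have hHS : H ≤ normalizer (S : Set L) := by
    intro h hh
    have h1 : x * h * x⁻¹ ∈ T := map_subtype_le K (show x * h * x⁻¹ ∈ K' from hKx ▸ ⟨h, hh, rfl⟩)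
    change x * h * x⁻¹ ∈ normalizer (P' : Set L) at h1
    rw [Subgroup.mem_normalizer_iff] at h1 ⊢
    intro z
    simp only [S, mem_pointwise_smul_iff_inv_smul_mem, ← map_inv, inv_inv, MulAut.smul_def, MulAut.conj_apply]
    rw [h1 (x * z * x⁻¹)]
    group
  have hSN : S ≤ N := by
    intro z hz
    simp only [S, mem_pointwise_smul_iff_inv_smul_mem, ← map_inv, inv_inv, MulAut.smul_def, MulAut.conj_apply] at hz
    have := Normal.conj_mem hNn _ (map_subtype_le _ hz) x⁻¹
    simpa [mul_assoc] using this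
  have hScard : Nat.card S = Nat.card P' := card_map_of_injective (MulAut.conj x⁻¹).injective
  have hSp : IsPGroup p S := (P.isPGroup'.map N.subtype).map _
  haveI : Nontrivial S := by
    rw [← Finite.one_lt_card_iff_nontrivial, hScard, card_map_of_injective N.subtype_injective]
    exact lt_of_lt_of_le hp.one_lt (Nat.le_of_dvd Nat.card_pos (P.dvd_card_of_dvd_card hpd))
  refine ⟨(center S).map S.subtype, inferInstance, ?_, ?_, fun h hh h1 => ?_⟩
  · intro h
    rw [map_eq_bot_iff_of_injective _ (subtype_injective _)] at h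
    exact (Subgroup.nontrivial_iff_ne_bot _).1 hSp.center_nontrivial h
  · intro h hh
    exact Coprime.normalizer_le_normalizer_map_characteristic S (center S) (hHS hh)
  · rw [eq_bot_iff, ← Frobenius.fpf_of_disjoint hH hc.disjoint hh h1]
    exact inf_le_inf_right _ ((map_subtype_le _).trans hSN)

theorem exists_module_of_isFC {A : Type*} [Group A] [Finite A] (h : IsFC A) :
    ∃ r : ℕ, r.Prime ∧ ¬ r ∣ Nat.card A ∧ ∃ (V : Type) (_ : AddCommGroup V) (_ : Finite V) (_ : Nontrivial V)
      (_ : Module (ZMod r) V) (f : A →* AddMonoid.End V), ∀ a : A, a ≠ 1 → ∀ v : V, f a v = v → v = 0 := by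
  classical
  obtain ⟨L, _, _, H, hH, ⟨e⟩⟩ := h
  obtain ⟨V, hVc, hV1, hHV, hfpf⟩ := exists_abelian_fpf_all hH
  haveI := hVc
  haveI : Nontrivial V := (nontrivial_iff_ne_bot V).2 hV1
  obtain ⟨r, hr, hrd⟩ := Nat.exists_prime_and_dvd (Finite.one_lt_card (α := V)).ne'
  haveI := Fact.mk hr
  refine ⟨r, hr, fun hd => ?_, ?_⟩
  · have hc := Frobenius.coprime_of_fpf hHV hfpf
    rw [Nat.card_congr e.toEquiv] at hd
    have := Nat.dvd_gcd hrd hd
    rw [hc.gcd_eq_one] at this
    exact hr.ne_one (Nat.dvd_one.1 this)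
  set W : Subgroup V :=
    { carrier := {v | v ^ r = 1}
      one_mem' := one_pow r
      mul_mem' := fun {a b} ha hb => by
        change (a * b) ^ r = 1
        rw [(show Commute a b from mul_comm' a b).mul_pow, show a ^ r = 1 from ha, show b ^ r = 1 from hb, one_mul]
      inv_mem' := fun {a} ha => by
        change a⁻¹ ^ r = 1
        rw [inv_pow, show a ^ r = 1 from ha, inv_one] } with hW
  letI hWc : CommGroup W :=
    { (inferInstance : Group W) with mul_comm := fun a b => Subtype.ext (mul_comm' (a : V) (b : V)) }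
  obtain ⟨v, hv⟩ := exists_prime_orderOf_dvd_card' (G := V) r hrd
  have hvW : v ∈ W := by
    change v ^ r = 1
    rw [← hv]; exact pow_orderOf_eq_one v
  haveI : Nontrivial W := (nontrivial_iff_ne_bot W).2 fun h => by
    rw [h, mem_bot] at hvW
    rw [hvW, orderOf_one] at hv
    exact hr.ne_one hv.symm
  let act : A → W → W := fun a w =>
    ⟨⟨(e a : L) * ((w : V) : L) * (e a : L)⁻¹, (Subgroup.mem_normalizer_iff.1 (hHV (e a).2) _).1 (w : V).2⟩, by
      change _ ^ r = 1
      refine Subtype.ext ?_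
      change ((e a : L) * ((w : V) : L) * (e a : L)⁻¹) ^ r = 1
      rw [conj_pow, show ((w : V) : L) ^ r = 1 from congrArg Subtype.val (w.2 : (w : V) ^ r = 1)]
      group⟩
  let f : A →* AddMonoid.End (Additive W) :=
    { toFun := fun a => AddMonoidHom.mk' (fun w => Additive.ofMul (act a w.toMul)) fun u w => by
        refine congrArg Additive.ofMul (Subtype.ext (Subtype.ext ?_))
        change (e a : L) * (((u.toMul : W) : V) * ((w.toMul : W) : V) : V) * (e a : L)⁻¹ = _
        simp [act, mul_assoc]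
      map_one' := by
        refine AddMonoidHom.ext fun w => Additive.toMul.injective (Subtype.ext (Subtype.ext ?_))
        change (e 1 : L) * ((w.toMul : V) : L) * (e 1 : L)⁻¹ = ((w.toMul : V) : L)
        simp
      map_mul' := fun a b => by
        refine AddMonoidHom.ext fun w => Additive.toMul.injective (Subtype.ext (Subtype.ext ?_))
        change (e (a * b) : L) * ((w.toMul : V) : L) * (e (a * b) : L)⁻¹ =
          (e a : L) * ((e b : L) * ((w.toMul : V) : L) * (e b : L)⁻¹) * (e a : L)⁻¹
        simp [mul_assoc] }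
  refine ⟨Additive W, inferInstance, inferInstance, inferInstance,
    AddCommGroup.zmodModule fun w => Additive.toMul.injective (Subtype.ext w.toMul.2), f, fun a ha w hw => ?_⟩
  have h1 : (e a : L) * ((w.toMul : V) : L) * (e a : L)⁻¹ = ((w.toMul : V) : L) :=
    congrArg (fun z : Additive W => ((z.toMul : V) : L)) hw
  have hmem : ((w.toMul : V) : L) ∈ V ⊓ centralizer {(e a : L)} :=
    ⟨(w.toMul : V).2, mem_centralizer_singleton_iff.2 (by
      rw [mul_inv_eq_iff_eq_mul] at h1
      first | exact h1 | exact h1.symm)⟩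
  rw [hfpf _ (e a).2 (fun h => ha (e.injective (Subtype.ext (by simpa using h)))), mem_bot] at hmem
  exact Additive.toMul.injective (Subtype.ext (Subtype.ext hmem))

variable {A : Type u} [Group A] [Fintype A] [DecidableEq A]

/-- The sum of the cyclic subgroup generated by `h`. -/
noncomputable def cycSum (R : Type*) [Semiring R] (h : A) : MonoidAlgebra R A :=
  ∑ i ∈ Finset.range (orderOf h), MonoidAlgebra.single (h ^ i) 1

theorem cycSum_apply_mul {R : Type*} [Semiring R] (h : A) (x : MonoidAlgebra R A) (g : A) :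
    (cycSum R h * x).coeff g = ∑ i ∈ Finset.range (orderOf h), x.coeff ((h ^ i)⁻¹ * g) := by
  rw [cycSum, Finset.sum_mul, MonoidAlgebra.coeff_sum, Finset.sum_apply']
  refine Finset.sum_congr rfl fun i _ => ?_
  rw [MonoidAlgebra.single_mul_apply, one_mul]

theorem cycSum_mul_self {R : Type*} [Semiring R] (h : A) :
    cycSum R h * cycSum R h = (orderOf h : R) • cycSum R h := by
  conv_lhs => arg 1; rw [cycSum]
  rw [Finset.sum_mul]
  have key : ∀ i : ℕ, MonoidAlgebra.single (h ^ i) (1 : R) * cycSum R h = cycSum R h := by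
    intro i
    rw [cycSum, Finset.mul_sum]
    simp only [MonoidAlgebra.single_mul_single, mul_one, ← pow_add]
    refine Finset.sum_nbij' (fun j => (i + j) % orderOf h) (fun j => (orderOf h - i % orderOf h + j) % orderOf h)
      ?_ ?_ ?_ ?_ ?_
    · intro j _; exact Finset.mem_range.2 (Nat.mod_lt _ (orderOf_pos h))
    · intro j _; exact Finset.mem_range.2 (Nat.mod_lt _ (orderOf_pos h))
    · intro j hj
      rw [Finset.mem_range] at hj
      have := Nat.mod_lt i (orderOf_pos h)
      simp only [Nat.add_mod_mod]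
      rw [show orderOf h - i % orderOf h + (i + j) = j + orderOf h * (1 + i / orderOf h) by
        have := Nat.div_add_mod i (orderOf h); rw [Nat.mul_add]; omega, Nat.add_mul_mod_self_left,
        Nat.mod_eq_of_lt hj]
    · intro j hj
      rw [Finset.mem_range] at hj
      have := Nat.mod_lt i (orderOf_pos h)
      simp only [Nat.add_mod_mod]
      rw [show i + (orderOf h - i % orderOf h + j) = j + orderOf h * (1 + i / orderOf h) by
        have := Nat.div_add_mod i (orderOf h); rw [Nat.mul_add]; omega, Nat.add_mul_mod_self_left,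
        Nat.mod_eq_of_lt hj]
    · intro j _
      rw [pow_mod_orderOf]
  rw [Finset.sum_congr rfl fun i _ => key i, Finset.sum_const, Finset.card_range, Nat.cast_smul_eq_nsmul]

theorem map_cycSum {R S : Type*} [Semiring R] [Semiring S] (f : R →+* S) (h : A) :
    MonoidAlgebra.mapRingHom A f (cycSum R h) = cycSum S h := by
  rw [cycSum, map_sum]
  exact Finset.sum_congr rfl fun i _ => by simp

/-- A central idempotent killed by all cyclic sums, from a fixed-point-free module. -/
theorem exists_idem_mod_prime {r : ℕ} [Fact r.Prime] (hr : ¬ r ∣ Nat.card A) {V : Type*} [AddCommGroup V]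
    [Module (ZMod r) V] [Nontrivial V] (f : A →* AddMonoid.End V)
    (hf : ∀ a : A, a ≠ 1 → ∀ v : V, f a v = v → v = 0) :
    ∃ e : MonoidAlgebra (ZMod r) A, e ≠ 0 ∧ IsIdempotentElem e ∧ (∀ x, e * x = x * e) ∧
      ∀ h : A, h ≠ 1 → cycSum (ZMod r) h * e = 0 := by
  classical
  let W : Submodule (MonoidAlgebra (ZMod r) A) (MonoidAlgebra (ZMod r) A) :=
    { carrier := {x | ∀ h : A, h ≠ 1 → cycSum (ZMod r) h * x = 0}
      add_mem' := fun hx hy h hh => by rw [mul_add, hx h hh, hy h hh, add_zero]
      zero_mem' := fun h _ => mul_zero _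
      smul_mem' := fun c x hx => by
        change ∀ h : A, h ≠ 1 → cycSum (ZMod r) h * (c * x) = 0
        induction c using MonoidAlgebra.induction_on with
        | of a =>
          intro h hh
          have hh' : a⁻¹ * h * a ≠ 1 := fun e => hh (by
            have e' : a * (a⁻¹ * h * a) * a⁻¹ = h := by group
            rw [← e', e]; group)
          have hord : orderOf (a⁻¹ * h * a) = orderOf h := by
            simpa using (MulAut.conj a⁻¹).orderOf_eq h
          have hswap : cycSum (ZMod r) h * MonoidAlgebra.of (ZMod r) A a =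
              MonoidAlgebra.of (ZMod r) A a * cycSum (ZMod r) (a⁻¹ * h * a) := by
            rw [cycSum, cycSum, Finset.sum_mul, Finset.mul_sum, hord]
            refine Finset.sum_congr rfl fun i _ => ?_
            rw [MonoidAlgebra.of_apply, MonoidAlgebra.single_mul_single, MonoidAlgebra.single_mul_single,
              one_mul, show (a⁻¹ * h * a) ^ i = a⁻¹ * h ^ i * a by
                simpa using (conj_pow (a := a⁻¹) (b := h) (i := i))]
            congr 1
            group
          rw [← mul_assoc, hswap, mul_assoc, hx _ hh', mul_zero]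
        | add y z hy hz => intro h hh; rw [add_mul, mul_add, hy h hh, hz h hh, add_zero]
        | smul s y hy => intro h hh; rw [smul_mul_assoc, mul_smul_comm, hy h hh, smul_zero] }
  -- `W` is nonzero
  obtain ⟨v, hv⟩ := exists_ne (0 : V)
  obtain ⟨φ, hφ⟩ : ∃ φ : Module.Dual (ZMod r) V, φ v ≠ 0 := by
    by_contra h
    push Not at h
    exact hv (Module.forall_dual_apply_eq_zero_iff (ZMod r) v |>.1 h)
  set w : MonoidAlgebra (ZMod r) A := ∑ g : A, MonoidAlgebra.single g (φ (f g⁻¹ v)) with hw
  have hwc : ∀ g, w.coeff g = φ (f g⁻¹ v) := by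
    intro g
    rw [hw, MonoidAlgebra.coeff_sum, Finset.sum_apply', Finset.sum_eq_single g]
    · simp
    · intro b _ hb; simp [Finsupp.single_eq_of_ne (Ne.symm hb)]
    · simp
  have hwW : w ∈ W := by
    intro h hh
    refine MonoidAlgebra.ext <| Finsupp.ext fun g => ?_
    rw [cycSum_apply_mul]
    simp only [hwc, mul_inv_rev, inv_inv, MonoidAlgebra.coeff_zero, Finsupp.zero_apply]
    rw [← map_sum]
    convert map_zero φ
    have hterm : ∀ i, f (g⁻¹ * h ^ i) v = f g⁻¹ (f (h ^ i) v) := fun i => by rw [map_mul]; rfl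
    simp only [hterm, ← map_sum]
    convert map_zero (f g⁻¹)
    refine hf h hh _ ?_
    rw [map_sum]
    have hs : ∀ i, f h (f (h ^ i) v) = f (h ^ (i + 1)) v := fun i => by rw [pow_succ', map_mul]; rfl
    simp only [hs]
    obtain ⟨m, hm⟩ := Nat.exists_eq_succ_of_ne_zero (orderOf_pos h).ne'
    rw [hm, Finset.sum_range_succ, Finset.sum_range_succ']
    congr 2
    rw [← Nat.succ_eq_add_one, ← hm, pow_orderOf_eq_one, pow_zero]
  haveI : NeZero (Nat.card A : ZMod r) := ⟨by rwa [ne_eq, ZMod.natCast_eq_zero_iff]⟩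
  obtain ⟨W', hW'⟩ := exists_isCompl W
  obtain ⟨e, he, f', hf', hsum⟩ := Submodule.mem_sup.1 (show (1 : MonoidAlgebra (ZMod r) A) ∈ W ⊔ W' by
    rw [hW'.sup_eq_top]; trivial)
  have hxe : ∀ x ∈ W, x * e = x := by
    intro x hx
    have h1 : x = x * e + x * f' := by rw [← mul_add, hsum, mul_one]
    have h2 : x * f' ∈ W ⊓ W' := by
      refine ⟨?_, W'.smul_mem x hf'⟩
      have : x * f' = x - x * e := by
        conv_rhs => arg 1; rw [h1]
        rw [add_sub_cancel_left]
      rw [this]
      exact W.sub_mem hx (W.smul_mem x he)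
    rw [hW'.inf_eq_bot, Submodule.mem_bot] at h2
    rw [h2, add_zero] at h1
    exact h1.symm
  have hright : ∀ x ∈ W, ∀ y, x * y ∈ W := fun x hx y h hh => by rw [← mul_assoc, hx h hh, zero_mul]
  have hex : ∀ x ∈ W, e * x = x := by
    intro x hx
    set y := x - e * x
    have hyW : y ∈ W := W.sub_mem hx (W.smul_mem e hx)
    have hey : ∀ z ∈ W, z * y = 0 := fun z hz => by
      rw [mul_sub, ← mul_assoc, hxe z hz, sub_self]
    let J : Submodule (MonoidAlgebra (ZMod r) A) (MonoidAlgebra (ZMod r) A) := Submodule.span _ {y}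
    obtain ⟨J', hJ'⟩ := exists_isCompl J
    obtain ⟨d, hd, d', hd', hdsum⟩ := Submodule.mem_sup.1 (show (1 : MonoidAlgebra (ZMod r) A) ∈ J ⊔ J' by
      rw [hJ'.sup_eq_top]; trivial)
    obtain ⟨c, rfl⟩ := Submodule.mem_span_singleton.1 hd
    have h0 : y * (c • y) = 0 := by
      rw [smul_eq_mul, ← mul_assoc]; exact hey _ (hright y hyW c)
    have h1 : y = y * d' := by
      conv_lhs => rw [← mul_one y, ← hdsum, mul_add, h0, zero_add]
    have h2 : y ∈ J ⊓ J' := ⟨Submodule.mem_span_singleton_self y, h1 ▸ J'.smul_mem y hd'⟩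
    rw [hJ'.inf_eq_bot, Submodule.mem_bot] at h2
    exact (sub_eq_zero.1 h2).symm
  refine ⟨e, ?_, hxe e he, fun x => ?_, he⟩
  · intro h0
    apply hφ
    have := hxe w hwW
    rw [h0, mul_zero] at this
    have := hwc 1
    rw [← ‹0 = w›] at this
    simpa using this.symm
  · have hxW : x * e ∈ W := W.smul_mem x he
    rw [← hxe _ (hright e he x), mul_assoc, hex _ hxW]

/-- An integral vector killed by all cyclic sums. -/
theorem exists_int_vector {r : ℕ} [hrf : Fact r.Prime] (hr : ¬ r ∣ Nat.card A) {V : Type*} [AddCommGroup V]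
    [Module (ZMod r) V] [Nontrivial V] (f : A →* AddMonoid.End V)
    (hf : ∀ a : A, a ≠ 1 → ∀ v : V, f a v = v → v = 0) :
    ∃ x : A → ℤ, x ≠ 0 ∧ ∀ h : A, h ≠ 1 → ∀ g : A, ∑ i ∈ Finset.range (orderOf h), x ((h ^ i)⁻¹ * g) = 0 := by
  classical
  obtain ⟨e, he0, hei, hec, heS⟩ := exists_idem_mod_prime hr f hf
  by_contra hcon
  push Not at hcon
  let ind : A → A → A → ℤ := fun h g a =>
    if h = 1 then 0 else ∑ i ∈ Finset.range (orderOf h), if (h ^ i)⁻¹ * g = a then 1 else 0
  let T : Matrix (A × A) A ℤ := Matrix.of fun hg a => ind hg.1 hg.2 a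
  have hT : ∀ {R : Type} [CommRing R] (x : A → R) (h g : A), h ≠ 1 →
      (T.map (Int.castRingHom R)).mulVec x (h, g) = ∑ i ∈ Finset.range (orderOf h), x ((h ^ i)⁻¹ * g) := by
    intro R _ x h g hh
    simp only [Matrix.mulVec, dotProduct, Matrix.map_apply, T, Matrix.of_apply, ind, if_neg hh, map_sum,
      apply_ite (Int.castRingHom R), map_one, map_zero, Finset.sum_mul, ite_mul, one_mul, zero_mul]
    rw [Finset.sum_comm]
    refine Finset.sum_congr rfl fun i _ => ?_
    rw [Finset.sum_ite_eq, if_pos (Finset.mem_univ _)]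
  have hT1 : ∀ {R : Type} [CommRing R] (x : A → R) (g : A),
      (T.map (Int.castRingHom R)).mulVec x (1, g) = 0 := by
    intro R _ x g
    simp [Matrix.mulVec, dotProduct, T, ind]
  have hdet : (T.transpose * T).det ≠ 0 := by
    intro h0
    obtain ⟨x, hx0, hx⟩ := Matrix.exists_mulVec_eq_zero_iff.2 h0
    rw [← Matrix.mulVec_mulVec] at hx
    have h1 : dotProduct x (T.transpose.mulVec (T.mulVec x)) = 0 := by rw [hx]; simp
    rw [Matrix.dotProduct_mulVec, Matrix.vecMul_transpose] at h1
    have h2 : T.mulVec x = 0 := by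
      funext i
      have := (Finset.sum_eq_zero_iff_of_nonneg (fun j _ => mul_self_nonneg (T.mulVec x j))).1 h1 i (Finset.mem_univ i)
      exact mul_self_eq_zero.1 this
    obtain ⟨h, hh, g, hg⟩ := hcon x hx0
    apply hg
    have := congrFun h2 (h, g)
    rw [← hT x h g hh]
    simpa using this
  set D := (T.transpose * T).det
  obtain ⟨k, hk⟩ : ∃ k : ℕ, D.natAbs < r ^ k := ⟨D.natAbs, Nat.lt_pow_self hrf.out.one_lt⟩
  have hk0 : k ≠ 0 := by
    rintro rfl; rw [pow_zero, Nat.lt_one_iff, Int.natAbs_eq_zero] at hk; exact hdet hk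
  let π : ZMod (r ^ k) →+* ZMod r := ZMod.castHom (dvd_pow_self r hk0) (ZMod r)
  let Φ : MonoidAlgebra (ZMod (r ^ k)) A →+* MonoidAlgebra (ZMod r) A := MonoidAlgebra.mapRingHom A π
  have hπ : ∀ c : ZMod (r ^ k), π c = 0 → ∃ d : ZMod (r ^ k), c = (r : ZMod (r ^ k)) * d := by
    intro c hc
    haveI : NeZero (r ^ k) := ⟨pow_ne_zero _ hrf.out.ne_zero⟩
    rw [← ZMod.natCast_zmod_val c, map_natCast, ZMod.natCast_eq_zero_iff] at hc
    obtain ⟨d, hd⟩ := hc
    exact ⟨(d : ZMod (r ^ k)), by rw [← Nat.cast_mul, ← hd, ZMod.natCast_zmod_val]⟩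
  have hker : ∀ y, Φ y = 0 → ∃ z, y = (r : MonoidAlgebra (ZMod (r ^ k)) A) * z := by
    intro y hy
    have hc : ∀ g, π (y.coeff g) = 0 := fun g => by
      have := congrArg (fun t : MonoidAlgebra (ZMod r) A => t.coeff g) hy
      simpa [Φ] using this
    choose d hd using fun g => hπ _ (hc g)
    refine ⟨∑ g : A, MonoidAlgebra.single g (d g), MonoidAlgebra.ext <| Finsupp.ext fun g => ?_⟩
    rw [MonoidAlgebra.natCast_def, MonoidAlgebra.single_one_mul_apply, MonoidAlgebra.coeff_sum,
      Finset.sum_apply', Finset.sum_eq_single g]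
    · simp [hd g]
    · intro b _ hb; simp [Finsupp.single_eq_of_ne (Ne.symm hb)]
    · simp
  have hrk : ∀ z : MonoidAlgebra (ZMod (r ^ k)) A, (r : MonoidAlgebra (ZMod (r ^ k)) A) ^ k * z = 0 := by
    intro z
    rw [← Nat.cast_pow, MonoidAlgebra.natCast_def, ZMod.natCast_self]; simp
  obtain ⟨e', he', hee'⟩ := exists_isIdempotentElem_eq_of_ker_isNilpotent Φ
    (fun y hy => by
      obtain ⟨z, rfl⟩ := hker y (RingHom.mem_ker.1 hy)
      refine ⟨k, ?_⟩
      rw [(Nat.cast_commute r z).mul_pow]
      exact hrk _)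
    e ⟨∑ g : A, MonoidAlgebra.single g ((e.coeff g).val : ZMod (r ^ k)), by
      refine MonoidAlgebra.ext <| Finsupp.ext fun g => ?_
      simp only [Φ, map_sum, MonoidAlgebra.coeff_sum, Finset.sum_apply']
      rw [Finset.sum_eq_single g]
      · simp [π]
      · intro b _ hb; simp [Finsupp.single_eq_of_ne (Ne.symm hb)]
      · simp⟩ hei
  -- corners of `e'` vanish, so it is central
  have hcorner : ∀ (p q : MonoidAlgebra (ZMod (r ^ k)) A), IsIdempotentElem p → IsIdempotentElem q →
      (∀ y, Φ (p * y * q) = 0) → ∀ y, p * y * q = 0 := by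
    intro p q hp hq h y
    have key : ∀ j : ℕ, ∃ z, p * y * q = (r : MonoidAlgebra (ZMod (r ^ k)) A) ^ j * (p * z * q) := by
      intro j
      induction j with
      | zero => exact ⟨y, by rw [pow_zero, one_mul]⟩
      | succ j ih =>
        obtain ⟨z, hz⟩ := ih
        obtain ⟨w, hw⟩ := hker _ (h z)
        refine ⟨w, ?_⟩
        rw [hz]
        have hpq : p * (p * z * q) * q = p * z * q := by
          rw [← mul_assoc, ← mul_assoc, hp.eq, mul_assoc, hq.eq]
        rw [← hpq, hw, ← mul_assoc p _ w, ← (Nat.cast_commute r p).eq]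
        simp only [mul_assoc, pow_succ]
    obtain ⟨z, hz⟩ := key k
    rw [hz, hrk]
  have hcomp : IsIdempotentElem (1 - e') := he'.one_sub
  have he'c : ∀ y, e' * y = y * e' := by
    intro y
    have h1 := hcorner e' (1 - e') he' hcomp (fun z => by
      rw [map_mul, map_mul, map_sub, map_one, hee', mul_sub, mul_one, mul_assoc, ← hec (Φ z),
        ← mul_assoc, hei.eq, sub_self]) y
    have h2 := hcorner (1 - e') e' hcomp he' (fun z => by
      rw [map_mul, map_mul, map_sub, map_one, hee', sub_mul, one_mul, hec (Φ z), sub_mul, mul_assoc (Φ z),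
        hei.eq, sub_self]) y
    rw [mul_sub, mul_one, sub_eq_zero] at h1
    rw [sub_mul, one_mul, sub_mul, sub_eq_zero] at h2
    rw [h1, h2]
  have hS0 : ∀ h : A, h ≠ 1 → cycSum (ZMod (r ^ k)) h * e' = 0 := by
    intro h hh
    obtain ⟨u, hu⟩ : ∃ u : ZMod (r ^ k), u * (orderOf h : ZMod (r ^ k)) = 1 := by
      haveI : NeZero (r ^ k) := ⟨pow_ne_zero _ hrf.out.ne_zero⟩
      have hc : (orderOf h).Coprime (r ^ k) :=
        (((hrf.out.coprime_iff_not_dvd).2 fun hd => hr (hd.trans (orderOf_dvd_natCard h))).symm).pow_right k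
      exact ⟨_, ZMod.inv_coe_unit (ZMod.unitOfCoprime _ hc) |> fun _ => by
        exact (ZMod.unitOfCoprime _ hc).inv_mul⟩
    set ε := u • cycSum (ZMod (r ^ k)) h with hε
    have hεi : IsIdempotentElem ε := by
      change ε * ε = ε
      rw [hε, smul_mul_smul_comm, cycSum_mul_self, smul_smul, mul_assoc, hu, mul_one]
    have hf0 : IsIdempotentElem (ε * e') := hεi.mul_of_commute (he'c ε).symm he'
    have hΦ0 : Φ (ε * e') = 0 := by
      have : cycSum (ZMod r) h * e = 0 := heS h hh
      rw [map_mul, hee', hε]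
      rw [show Φ (u • cycSum (ZMod (r ^ k)) h) = π u • cycSum (ZMod r) h by
        rw [← map_cycSum π h]
        refine MonoidAlgebra.ext <| Finsupp.ext fun g => ?_
        simp [Φ], smul_mul_assoc, this, smul_zero]
    have h0 : ε * e' = 0 := by
      have := hcorner (ε * e') (ε * e') hf0 hf0 (fun z => by rw [map_mul, hΦ0, mul_zero]) 1
      rwa [mul_one, hf0.eq] at this
    calc cycSum (ZMod (r ^ k)) h * e' = (orderOf h : ZMod (r ^ k)) • (ε * e') := by
          rw [hε, smul_mul_assoc, smul_smul, mul_comm, hu, one_smul]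
      _ = 0 := by rw [h0, smul_zero]
  obtain ⟨g0, hg0⟩ : ∃ g0, e.coeff g0 ≠ 0 := by
    by_contra h
    push Not at h
    exact he0 (MonoidAlgebra.ext <| Finsupp.ext fun g => by simpa using h g)
  have hvec : (T.map (Int.castRingHom (ZMod (r ^ k)))).mulVec (fun g => e'.coeff g) = 0 := by
    funext ⟨h, g⟩
    by_cases hh : h = 1
    · subst hh; exact hT1 _ g
    · rw [hT _ h g hh, ← cycSum_apply_mul, hS0 h hh]; rfl
  have hDz : (D : ZMod (r ^ k)) * e'.coeff g0 = 0 := by
    have h1 : ((Matrix.adjugate (T.transpose * T) * T.transpose).map (Int.castRingHom (ZMod (r ^ k)))).mulVec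
        ((T.map (Int.castRingHom (ZMod (r ^ k)))).mulVec (fun g => e'.coeff g)) = 0 := by
      rw [hvec, Matrix.mulVec_zero]
    rw [Matrix.mulVec_mulVec, ← Matrix.map_mul, Matrix.mul_assoc, Matrix.adjugate_mul] at h1
    have := congrFun h1 g0
    rw [Matrix.smul_one_eq_diagonal, Matrix.diagonal_map (map_zero _), Matrix.mulVec_diagonal] at this
    simpa [D] using this
  have hu : IsUnit (e'.coeff g0) := by
    haveI : NeZero (r ^ k) := ⟨pow_ne_zero _ hrf.out.ne_zero⟩
    rw [← ZMod.natCast_zmod_val (e'.coeff g0), ZMod.isUnit_iff_coprime]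
    refine (Nat.Coprime.pow_right k ?_)
    refine ((hrf.out.coprime_iff_not_dvd).2 fun hd => hg0 ?_).symm
    have hg := congrArg (fun t : MonoidAlgebra (ZMod r) A => t.coeff g0) hee'
    simp only [Φ, MonoidAlgebra.coeff_mapRingHom, Finsupp.mapRange_apply] at hg
    rw [← hg, ← ZMod.natCast_zmod_val (e'.coeff g0), map_natCast, ZMod.natCast_eq_zero_iff]
    exact hd
  rw [IsUnit.mul_left_eq_zero hu, ZMod.intCast_zmod_eq_zero_iff_dvd] at hDz
  have := Nat.le_of_dvd (Int.natAbs_pos.2 hdet) (Int.natAbs_dvd_natAbs.2 hDz)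
  simp only [Int.natAbs_natCast] at this
  omega

omit [DecidableEq A] [Fintype A] in
/-- A Frobenius complement acts fixed-point-freely in all large prime characteristics. -/
theorem exists_fpf_large [Finite A] (hA : IsFC A) :
    ∃ B : ℕ, ∀ l : ℕ, l.Prime → B < l → ∃ (V : Type u) (_ : AddCommGroup V) (_ : Finite V) (_ : Nontrivial V)
      (_ : Module (ZMod l) V) (f : A →* AddMonoid.End V), ∀ a : A, a ≠ 1 → ∀ v : V, f a v = v → v = 0 := by
  classical
  haveI := Fintype.ofFinite A
  obtain ⟨r, hr, hrA, V, _, _, _, _, f, hf⟩ := exists_module_of_isFC hA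
  haveI := Fact.mk hr
  obtain ⟨x, hx0, hx⟩ := exists_int_vector hrA f hf
  obtain ⟨g0, hg0⟩ := Function.ne_iff.1 hx0
  refine ⟨max (x g0).natAbs (Nat.card A), fun l hl hlB => ?_⟩
  haveI := Fact.mk hl
  let W : Submodule (ZMod l) (A → ZMod l) :=
    { carrier := {y | ∀ h : A, h ≠ 1 → ∀ g : A, ∑ i ∈ Finset.range (orderOf h), y ((h ^ i)⁻¹ * g) = 0}
      add_mem' := fun hy hz h hh g => by simp [Finset.sum_add_distrib, hy h hh g, hz h hh g]
      zero_mem' := fun h hh g => by simp
      smul_mem' := fun c y hy h hh g => by simp [← Finset.mul_sum, hy h hh g] }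
  have hWst : ∀ a : A, ∀ y ∈ W, (fun g => y (a⁻¹ * g)) ∈ W := by
    intro a y hy h hh g
    have hh' : a⁻¹ * h * a ≠ 1 := fun e => hh (by
      have e' : a * (a⁻¹ * h * a) * a⁻¹ = h := by group
      rw [← e', e]; group)
    have h1 := hy _ hh' (a⁻¹ * g)
    rw [show orderOf (a⁻¹ * h * a) = orderOf h by simpa using (MulAut.conj a⁻¹).orderOf_eq h] at h1
    rw [← h1]
    refine Finset.sum_congr rfl fun i _ => ?_
    rw [show (a⁻¹ * h * a) ^ i = a⁻¹ * h ^ i * a by simpa using (conj_pow (a := a⁻¹) (b := h) (i := i))]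
    congr 1
    group
  haveI : Nontrivial W := by
    refine ⟨⟨⟨fun g => (x g : ZMod l), fun h hh g => ?_⟩, 0, fun h0 => ?_⟩⟩
    · rw [← Int.cast_sum, hx h hh g, Int.cast_zero]
    · have := congrFun (congrArg Subtype.val h0) g0
      simp only [ZeroMemClass.coe_zero, Pi.zero_apply, ZMod.intCast_zmod_eq_zero_iff_dvd] at this
      have := Nat.le_of_dvd (Int.natAbs_pos.2 hg0) (Int.natAbs_dvd_natAbs.2 this)
      simp only [Int.natAbs_natCast] at this
      omega
  let F : A →* AddMonoid.End W :=
    { toFun := fun a => AddMonoidHom.mk' (fun y => ⟨fun g => (y : A → ZMod l) (a⁻¹ * g), hWst a y y.2⟩)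
        fun y z => rfl
      map_one' := AddMonoidHom.ext fun y => Subtype.ext (funext fun g => by
        change (y : A → ZMod l) ((1 : A)⁻¹ * g) = (y : A → ZMod l) g
        rw [inv_one, one_mul])
      map_mul' := fun a b => AddMonoidHom.ext fun y => Subtype.ext (funext fun g => by
        change (y : A → ZMod l) ((a * b)⁻¹ * g) = (y : A → ZMod l) (b⁻¹ * (a⁻¹ * g))
        rw [mul_inv_rev, mul_assoc]) }
  refine ⟨W, inferInstance, inferInstance, inferInstance, inferInstance, F, fun a ha y hy => ?_⟩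
  have hinv : ∀ g, (y : A → ZMod l) (a⁻¹ * g) = (y : A → ZMod l) g := fun g =>
    congrFun (congrArg Subtype.val hy) g
  have hinv' : ∀ (i : ℕ) g, (y : A → ZMod l) ((a ^ i)⁻¹ * g) = (y : A → ZMod l) g := by
    intro i
    induction i with
    | zero => intro g; simp
    | succ i ih => intro g; rw [pow_succ, mul_inv_rev, mul_assoc, hinv, ih]
  refine Subtype.ext (funext fun g => ?_)
  have := y.2 a ha g
  simp only [hinv', Finset.sum_const, Finset.card_range, nsmul_eq_mul] at this
  refine (mul_eq_zero.1 this).resolve_left ?_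
  rw [ZMod.natCast_eq_zero_iff]
  intro hd
  have := Nat.le_of_dvd (orderOf_pos a) hd
  have := Nat.le_of_dvd Nat.card_pos (orderOf_dvd_natCard a)
  omega

end Cfsg.Agent.FGS.FC
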