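import Cfsg.Prelude.Def_Solvable
import Cfsg.Agent.Lib.FrobeniusGroup
import Cfsg.Agent.Coprime.Action
import Cfsg.Agent.S0041
import Cfsg.Agent.H4.CyclicMax
import Mathlib.GroupTheory.SemidirectProduct
import Mathlib.RingTheory.Finiteness.Nakayama
import Mathlib.GroupTheory.FiniteAbelian.Basic
import Mathlib.Algebra.Group.Shrink

/-!
Abstract Frobenius complements: constructions from fixed-point-free modules, and first properties.
-/

set_option autoImplicit false

namespace Cfsg.Agent.FGS.FC

open Subgroup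
open scoped Pointwise

/-- `A` is isomorphic to a Frobenius complement of some finite group. -/
def IsFC (A : Type*) [Group A] : Prop :=
  ∃ (L : Type) (_ : Group L) (_ : Finite L) (H : Subgroup L), Cfsg.IsFrobeniusComplement H ∧ Nonempty (A ≃* H)

/-- `A` acts fixed-point-freely on an abelian group of order `m`. -/
def HasFpf (A : Type*) [Group A] (m : ℕ) : Prop :=
  ∃ (V : Type) (_ : AddCommGroup V) (_ : Finite V) (f : A →* AddMonoid.End V),
    Nat.card V = m ∧ ∀ a : A, a ≠ 1 → ∀ v : V, f a v = v → v = 0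

theorem exists_transfer {A : Type*} [Group A] {L : Type*} [Group L] [Finite L] (H : Subgroup L)
    (hH : Cfsg.IsFrobeniusComplement H) (e : A ≃* H) :
    ∃ (M : Type) (_ : Group M) (_ : Finite M) (K : Subgroup M),
      Cfsg.IsFrobeniusComplement K ∧ Nonempty (A ≃* K) ∧ K.index = H.index := by
  haveI : Small.{0} L := inferInstance
  let μ : L ≃* Shrink.{0} L := Shrink.mulEquiv.symm
  have hμ : Function.Injective μ.toMonoidHom := μ.injective
  refine ⟨Shrink.{0} L, inferInstance, Finite.of_equiv L μ.toEquiv, H.map μ.toMonoidHom, ?_,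
    ⟨e.trans (H.equivMapOfInjective μ.toMonoidHom hμ)⟩, index_map_of_bijective μ.bijective H⟩
  refine Frobenius.isFrobeniusComplement_of_ti ?_ ?_ ?_
  · rw [ne_eq, map_eq_bot_iff_of_injective _ hμ]; exact hH.1
  · intro h
    apply hH.2.1
    rw [← comap_map_eq_self_of_injective (f := μ.toMonoidHom) hμ H, h, comap_top]
  · rintro g hg _ ⟨x, hx, rfl⟩ hgx
    obtain ⟨y, hy, hy'⟩ := hgx
    obtain ⟨g, rfl⟩ := μ.surjective g
    change μ y = μ g * μ x * (μ g)⁻¹ at hy'
    rw [← map_inv, ← map_mul, ← map_mul, μ.injective.eq_iff] at hy'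
    have hg' : g ∉ H := fun h => hg ⟨g, h, rfl⟩
    rw [Frobenius.ti_of_isFrobeniusComplement hH g hg' x hx (hy' ▸ hy)]
    exact map_one _

theorem isFC_transfer {A : Type*} [Group A] {L : Type*} [Group L] [Finite L] (H : Subgroup L)
    (hH : Cfsg.IsFrobeniusComplement H) (e : A ≃* H) : IsFC A := by
  obtain ⟨M, hM, hM', K, h1, h2, -⟩ := exists_transfer H hH e
  exact ⟨M, hM, hM', K, h1, h2⟩

/-- A fixed-point-free module gives a Frobenius group with the given complement and kernel order. -/
theorem exists_complement_of_fpf {A : Type*} [Group A] [Finite A] [Nontrivial A] {V : Type*}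
    [AddCommGroup V] [Finite V] [Nontrivial V] (f : A →* AddMonoid.End V)
    (hf : ∀ a : A, a ≠ 1 → ∀ v : V, f a v = v → v = 0) :
    ∃ (L : Type) (_ : Group L) (_ : Finite L) (H : Subgroup L),
      Cfsg.IsFrobeniusComplement H ∧ Nonempty (A ≃* H) ∧ H.index = Nat.card V := by
  have hinv : ∀ a : A, ∀ v : V, f a⁻¹ (f a v) = v := fun a v => by
    change (f a⁻¹ * f a) v = v
    rw [← map_mul, inv_mul_cancel, map_one]; rfl
  let φ : A →* MulAut (Multiplicative V) :=
    { toFun := fun a =>
        { toFun := fun v => Multiplicative.ofAdd (f a v.toAdd)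
          invFun := fun v => Multiplicative.ofAdd (f a⁻¹ v.toAdd)
          left_inv := fun v => congrArg Multiplicative.ofAdd (hinv a v.toAdd)
          right_inv := fun v => congrArg Multiplicative.ofAdd (show f a (f a⁻¹ v.toAdd) = v.toAdd by simpa using hinv a⁻¹ v.toAdd)
          map_mul' := fun v w => congrArg Multiplicative.ofAdd (map_add (f a) v.toAdd w.toAdd) }
      map_one' := by
        ext v
        change Multiplicative.ofAdd (f 1 v.toAdd) = v
        rw [map_one]; rfl
      map_mul' := fun a b => by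
        ext v
        change Multiplicative.ofAdd (f (a * b) v.toAdd) = _
        rw [map_mul]; rfl }
  haveI : Finite (Multiplicative V ⋊[φ] A) := Finite.of_equiv _ SemidirectProduct.equivProd.symm
  let H : Subgroup (Multiplicative V ⋊[φ] A) := (SemidirectProduct.inr : A →* Multiplicative V ⋊[φ] A).range
  let e : A ≃* H := MonoidHom.ofInjective SemidirectProduct.inr_injective
  have hcard : Nat.card (Multiplicative V ⋊[φ] A) = Nat.card V * Nat.card A := by
    rw [SemidirectProduct.card]; rfl
  have hidx : H.index = Nat.card V := by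
    refine Nat.eq_of_mul_eq_mul_left (Nat.card_pos (α := H)) ?_
    rw [H.card_mul_index, hcard, ← Nat.card_congr e.toEquiv, mul_comm]
  have hH : Cfsg.IsFrobeniusComplement H := by
    refine Frobenius.isFrobeniusComplement_of_ti ?_ ?_ ?_
    · intro h
      obtain ⟨a, ha⟩ := exists_ne (1 : A)
      exact ha (e.injective (Subtype.ext ((eq_bot_iff_forall _).1 h _ (e a).2 |>.trans (by simp [e]))))
    · rw [← index_eq_one.ne, hidx]
      exact (Finite.one_lt_card (α := V)).ne'
    · rintro ⟨v, b⟩ hg _ ⟨a, rfl⟩ ⟨c, hc⟩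
      by_contra ha
      have ha' : a ≠ 1 := fun h => ha (by rw [h, map_one])
      have hv : v ≠ 1 := fun h => hg ⟨b, by rw [h]; rfl⟩
      have h1 := congrArg SemidirectProduct.left hc
      simp only [SemidirectProduct.left_inr, SemidirectProduct.mul_left, SemidirectProduct.inv_left,
        SemidirectProduct.mul_right, SemidirectProduct.right_inr, map_one, mul_one] at h1
      have hne : b * a * b⁻¹ ≠ 1 := fun h => ha' (by simpa using h)
      have h2 : φ (b * a * b⁻¹) v = v := by
        rw [map_mul φ (b * a) b⁻¹, MulAut.mul_apply]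
        simp only [map_inv, mul_inv_eq_one, eq_comm (a := (1 : Multiplicative V))] at h1 ⊢
        exact h1.symm
      exact hv (Multiplicative.toAdd.injective (hf _ hne v.toAdd (congrArg Multiplicative.toAdd h2)))
  obtain ⟨M, hM, hM', K, h1, h2, h3⟩ := exists_transfer H hH e
  exact ⟨M, hM, hM', K, h1, h2, h3.trans hidx⟩

theorem isFC_of_fpf {A : Type*} [Group A] [Finite A] [Nontrivial A] {V : Type*}
    [AddCommGroup V] [Finite V] [Nontrivial V] (f : A →* AddMonoid.End V)
    (hf : ∀ a : A, a ≠ 1 → ∀ v : V, f a v = v → v = 0) : IsFC A := by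
  obtain ⟨L, hL, hL', H, h1, h2, -⟩ := exists_complement_of_fpf f hf
  exact ⟨L, hL, hL', H, h1, h2⟩

theorem HasFpf.isFC {A : Type*} [Group A] [Finite A] [Nontrivial A] {m : ℕ} (h : HasFpf A m) (hm : 1 < m) :
    IsFC A := by
  obtain ⟨V, _, _, f, hc, hf⟩ := h
  haveI : Nontrivial V := Finite.one_lt_card_iff_nontrivial.1 (hc ▸ hm)
  exact isFC_of_fpf f hf

theorem card_kernel {L : Type*} [Group L] [Finite L] {H : Subgroup L} (hH : Cfsg.IsFrobeniusComplement H) :
    Nat.card (Cfsg.frobeniusKernel H) = H.index := by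
  obtain ⟨N, hN, -, hc⟩ := Frobenius.exists_kernel hH
  rw [← hN]
  exact hc.index_eq_card.symm

/-- A finite subgroup of the units of a domain is a Frobenius complement. -/
theorem isFC_units {D : Type*} [Ring D] [IsDomain D] {A : Type*} [Group A] [Finite A] [Nontrivial A]
    (ι : A →* Dˣ) (hι : Function.Injective ι) : IsFC A := by
  classical
  haveI := Fintype.ofFinite A
  set S : Finset D := Finset.univ.image fun a : A => ((ι a : Dˣ) : D) with hS
  set M : Submodule ℤ D := Submodule.span ℤ (S : Set D) with hM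
  have hone : (1 : D) ∈ M := Submodule.subset_span (by
    simp only [hS, Finset.coe_image, Finset.coe_univ, Set.image_univ, Set.mem_range]; exact ⟨1, by simp⟩)
  have hstab : ∀ a : A, ∀ v ∈ M, ((ι a : Dˣ) : D) * v ∈ M := by
    intro a v hv
    induction hv using Submodule.span_induction with
    | mem x hx =>
      simp only [hS, Finset.coe_image, Finset.coe_univ, Set.image_univ, Set.mem_range] at hx
      obtain ⟨b, rfl⟩ := hx
      refine Submodule.subset_span ?_
      simp only [hS, Finset.coe_image, Finset.coe_univ, Set.image_univ, Set.mem_range]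
      exact ⟨a * b, by simp⟩
    | zero => simp
    | add x y _ _ hx hy => rw [mul_add]; exact add_mem hx hy
    | smul r x _ hx => rw [mul_smul_comm]; exact M.smul_mem r hx
  -- choose a prime not dividing the order of the group for which `1` is not divisible in `M`
  obtain ⟨l, hl, hlA, hl1⟩ : ∃ l : ℕ, l.Prime ∧ ¬ l ∣ Nat.card A ∧ ∀ m ∈ M, (l : D) * m ≠ 1 := by
    obtain ⟨c, hc⟩ := CharP.exists D
    rcases CharP.char_is_prime_or_zero D c with hp | rfl
    · haveI := Fact.mk hp
      refine ⟨c, hp, fun hd => ?_, fun m _ => by simp [CharP.cast_eq_zero]⟩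
      obtain ⟨a, ha⟩ := exists_prime_orderOf_dvd_card' (G := A) c hd
      have h1 : ((ι a : Dˣ) : D) ^ c = 1 := by
        rw [← Units.val_pow_eq_pow_val, ← map_pow, ← ha, pow_orderOf_eq_one, map_one, Units.val_one]
      have h2 : (((ι a : Dˣ) : D) - 1) ^ c = 0 := by
        rw [sub_pow_char_of_commute (p := c) (Commute.one_right _), h1, one_pow, sub_self]
      have h3 : ι a = 1 := Units.ext (sub_eq_zero.1 (pow_eq_zero_iff hp.ne_zero |>.1 h2))
      rw [← map_one ι] at h3
      rw [hι h3, orderOf_one] at ha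
      exact hp.ne_one ha.symm
    · haveI := hc
      haveI : CharZero D := CharP.charP_to_charZero D
      obtain ⟨l, hl, hlp⟩ := Nat.exists_infinite_primes (Nat.card A + 1)
      refine ⟨l, hlp, fun hd => absurd (Nat.le_of_dvd Nat.card_pos hd) (by omega), fun m hm h1 => ?_⟩
      have hcm : ∀ v ∈ M, m * ((l : D) * v) = v := by
        intro v _
        rw [← mul_assoc, ← Nat.cast_comm l m, h1, one_mul]
      have hle : M ≤ (Ideal.span {(l : ℤ)}) • M := by
        have hmem : ∀ x ∈ M, ∀ y ∈ M, x * y ∈ M := by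
          intro x hx y hy
          induction hx using Submodule.span_induction with
          | mem z hz =>
            simp only [hS, Finset.coe_image, Finset.coe_univ, Set.image_univ, Set.mem_range] at hz
            obtain ⟨b, rfl⟩ := hz
            exact hstab b y hy
          | zero => simp
          | add z w _ _ hz hw => rw [add_mul]; exact add_mem hz hw
          | smul r z _ hz => rw [smul_mul_assoc]; exact M.smul_mem r hz
        intro v hv
        rw [show v = (l : ℤ) • (m * v) by rw [zsmul_eq_mul, Int.cast_natCast, ← mul_assoc, h1, one_mul]]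
        exact Submodule.smul_mem_smul (Ideal.mem_span_singleton_self _) (hmem m hm v hv)
      obtain ⟨r, hr, hrM⟩ := Submodule.exists_sub_one_mem_and_smul_eq_zero_of_fg_of_le_smul _ M
        (hM ▸ Submodule.fg_span S.finite_toSet) hle
      have hr0 := hrM 1 hone
      rw [zsmul_eq_mul, mul_one, Int.cast_eq_zero] at hr0
      rw [hr0, Ideal.mem_span_singleton] at hr
      have : l ∣ 1 := by simpa [Int.natCast_dvd] using hr
      exact hlp.ne_one (Nat.dvd_one.1 this)
  set W : Submodule ℤ M := (Ideal.span {(l : ℤ)}) • ⊤ with hW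
  have hmemW : ∀ v : M, v ∈ W ↔ ∃ w : M, (l : ℤ) • w = v := fun v => by
    rw [hW, Submodule.ideal_span_singleton_smul]
    simp [Submodule.mem_smul_pointwise_iff_exists]
  let act : A → (M →ₗ[ℤ] M) := fun a =>
    { toFun := fun v => ⟨((ι a : Dˣ) : D) * (v : D), hstab a v v.2⟩
      map_add' := fun v w => Subtype.ext (mul_add _ _ _)
      map_smul' := fun r v => Subtype.ext (mul_smul_comm r _ _) }
  have hact : ∀ a, W ≤ W.comap (act a) := by
    intro a v hv
    rw [Submodule.mem_comap, hmemW] at *
    obtain ⟨w, rfl⟩ := hv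
    exact ⟨act a w, by rw [map_zsmul]⟩
  let ff : A → (M ⧸ W →ₗ[ℤ] M ⧸ W) := fun a => W.mapQ W (act a) (hact a)
  have hff1 : ∀ q, ff 1 q = q := by
    intro q; obtain ⟨v, rfl⟩ := Submodule.Quotient.mk_surjective W q
    exact congrArg Submodule.Quotient.mk (Subtype.ext (by simp [act]))
  have hffm : ∀ a b q, ff (a * b) q = ff a (ff b q) := by
    intro a b q; obtain ⟨v, rfl⟩ := Submodule.Quotient.mk_surjective W q
    exact congrArg Submodule.Quotient.mk (Subtype.ext (by simp [act, mul_assoc]))
  let f : A →* AddMonoid.End (M ⧸ W) :=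
    { toFun := fun a => (ff a).toAddMonoidHom
      map_one' := by ext q; exact hff1 q
      map_mul' := fun a b => by ext q; exact hffm a b q }
  have hlv : ∀ q : M ⧸ W, (l : ℤ) • q = 0 := by
    intro q; obtain ⟨v, rfl⟩ := Submodule.Quotient.mk_surjective W q
    rw [← Submodule.Quotient.mk_smul, Submodule.Quotient.mk_eq_zero, hmemW]
    exact ⟨v, rfl⟩
  haveI : Finite (M ⧸ W) := by
    haveI : Module.Finite ℤ M := Module.Finite.iff_fg.2 (hM ▸ Submodule.fg_span S.finite_toSet)
    haveI : AddGroup.FG (M ⧸ W) := Module.Finite.iff_addGroup_fg.1 (inferInstance : Module.Finite ℤ (M ⧸ W))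
    exact AddCommGroup.finite_of_fg_isAddTorsion _ fun q =>
      isOfFinAddOrder_iff_nsmul_eq_zero.2 ⟨l, hl.pos, by simpa using hlv q⟩
  haveI : Nontrivial (M ⧸ W) := by
    refine ⟨⟨Submodule.Quotient.mk ⟨1, hone⟩, 0, fun h => ?_⟩⟩
    rw [Submodule.Quotient.mk_eq_zero, hmemW] at h
    obtain ⟨w, hw⟩ := h
    have := congrArg Subtype.val hw
    rw [Submodule.coe_smul, zsmul_eq_mul, Int.cast_natCast] at this
    exact hl1 w w.2 this
  refine isFC_of_fpf f fun a ha q hq => ?_
  obtain ⟨v, rfl⟩ := Submodule.Quotient.mk_surjective W q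
  set n := orderOf a
  have hsum : ∑ i ∈ Finset.range n, ((ι a : Dˣ) : D) ^ i = 0 := by
    have h := geom_sum_mul ((ι a : Dˣ) : D) n
    have h1 : ((ι a : Dˣ) : D) ^ n = 1 := by
      rw [← Units.val_pow_eq_pow_val, ← map_pow, pow_orderOf_eq_one, map_one, Units.val_one]
    rw [h1, sub_self] at h
    refine (mul_eq_zero.1 h).resolve_right fun h2 => ha (hι ?_)
    rw [map_one]
    exact Units.ext (sub_eq_zero.1 h2)
  have hfix : ∀ i : ℕ, (Submodule.Quotient.mk (act (a ^ i) v) : M ⧸ W) = Submodule.Quotient.mk v := by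
    intro i
    induction i with
    | zero => exact congrArg Submodule.Quotient.mk (Subtype.ext (by simp [act]))
    | succ i ih =>
      rw [show act (a ^ (i + 1)) v = act a (act (a ^ i) v) from Subtype.ext (by simp [act, pow_succ', mul_assoc])]
      change ff a (Submodule.Quotient.mk (act (a ^ i) v)) = _
      rw [ih]; exact hq
  have hzero : ∑ i ∈ Finset.range n, act (a ^ i) v = 0 := by
    refine Subtype.ext ?_
    rw [Submodule.coe_sum, Submodule.coe_zero]
    calc ∑ i ∈ Finset.range n, ((act (a ^ i) v : M) : D)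
        = (∑ i ∈ Finset.range n, ((ι a : Dˣ) : D) ^ i) * v := by
          rw [Finset.sum_mul]; refine Finset.sum_congr rfl fun i _ => ?_; simp [act]
      _ = 0 := by rw [hsum, zero_mul]
  have hn : (n : ℤ) • (Submodule.Quotient.mk v : M ⧸ W) = 0 := by
    have h := congrArg (W.mkQ) hzero
    rw [map_sum, map_zero] at h
    simpa [hfix] using h
  obtain ⟨x, y, hxy⟩ : ∃ x y : ℤ, x * n + y * l = 1 := by
    have hcop : Nat.Coprime n l := ((hl.coprime_iff_not_dvd).2 fun hd => hlA (hd.trans (orderOf_dvd_natCard a))).symm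
    obtain ⟨x, y, h⟩ := (Nat.isCoprime_iff_coprime.2 hcop)
    exact ⟨x, y, h⟩
  calc (Submodule.Quotient.mk v : M ⧸ W) = (x * n + y * l) • (Submodule.Quotient.mk v : M ⧸ W) := by
        rw [hxy, one_smul]
    _ = 0 := by rw [add_smul, mul_smul, mul_smul, hn, hlv, smul_zero, smul_zero, add_zero]

/-- In a Frobenius group some nontrivial abelian subgroup disjoint from the complement is
normalised by it. -/
theorem exists_abelian_fpf {L : Type*} [Group L] [Finite L] {H : Subgroup L}
    (hH : Cfsg.IsFrobeniusComplement H) {E : Subgroup L} (hEH : E ≤ H) (hEs : Group.IsSolvable E) :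
    ∃ V : Subgroup L, IsMulCommutative V ∧ V ≠ ⊥ ∧ E ≤ normalizer (V : Set L) ∧
      ∀ h ∈ H, h ≠ 1 → V ⊓ centralizer {h} = ⊥ := by
  obtain ⟨N, -, hNn, hc⟩ := Frobenius.exists_kernel hH
  haveI := hNn
  have hN1 : Nat.card N ≠ 1 := fun h =>
    Frobenius.ne_bot_of_isComplement' hH hc (card_eq_one.1 h)
  obtain ⟨p, hp, hpd⟩ := Nat.exists_prime_and_dvd hN1
  haveI := Fact.mk hp
  obtain ⟨S, hS⟩ := Coprime.exists_invariant_sylow p (A := E) (K := N)
    (le_top.trans (normalizer_eq_top_iff.2 hNn).ge)
    ((Frobenius.coprime_of_complement hH hc).symm.coprime_dvd_left (card_dvd_of_le hEH)) (Or.inl hEs)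
  set S' := (S : Subgroup N).map N.subtype
  set V := (center S').map S'.subtype
  have hVN : V ≤ N := (map_subtype_le _).trans (map_subtype_le _)
  refine ⟨V, inferInstance, ?_, ?_, fun h hh h1 => ?_⟩
  · intro h
    rw [map_eq_bot_iff_of_injective _ (subtype_injective _)] at h
    have hne : Nontrivial S' := by
      rw [← Finite.one_lt_card_iff_nontrivial, card_map_of_injective (subtype_injective N)]
      exact Nat.lt_of_lt_of_le hp.one_lt (Nat.le_of_dvd Nat.card_pos (S.dvd_card_of_dvd_card hpd))
    have := (S.isPGroup'.map N.subtype).center_nontrivial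
    exact (Subgroup.nontrivial_iff_ne_bot _).1 this h
  · intro x hx
    exact Coprime.normalizer_le_normalizer_map_characteristic S' (center S') (hS hx)
  · rw [eq_bot_iff, ← Frobenius.fpf_of_disjoint hH hc.disjoint hh h1]
    exact inf_le_inf_right _ hVN

/-- An abelian subgroup of a Frobenius complement is cyclic. -/
theorem isCyclic_of_isMulCommutative {L : Type*} [Group L] [Finite L] {H : Subgroup L}
    (hH : Cfsg.IsFrobeniusComplement H) (E : Subgroup L) (hE : E ≤ H) (hc : IsMulCommutative E) :
    IsCyclic E := by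
  haveI := hc
  obtain ⟨V, hV, hV1, hV2, hV3⟩ := exists_abelian_fpf hH hE
    (Group.isSolvable_of_comm fun a b => mul_comm' a b)
  haveI := hV
  exact Cfsg.Agent.S0041.result E V hV1 hV2 (fun a ha => hV3 a (hE ha)) (Or.inl hc)

end Cfsg.Agent.FGS.FC
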